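import Cfsg.Agent.H70.Dl.Classes
import Cfsg.Agent.H852.IMHS
import Cfsg.Agent.H153.ZerosTool
import Cfsg.Agent.H904.HSIso
import Cfsg.Agent.S2072

/-!
# S4769: the row of `HS` (helper70)

On 100 points: `X Y` has order 8 and a centralizer of order at most 16; 20 different (order, cycle type) and two classes
of elements of order 11.
-/

set_option autoImplicit false
set_option maxRecDepth 100000

open Cfsg

namespace Cfsg.Agent.H70.Dl.HS

open Cfsg.Agent.H246.Dl Cfsg.Agent.H596.OneFacts Cfsg.Agent.H651.Two Cfsg.Agent.H759.Dl Cfsg.Agent.H680.Dl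
open Cfsg.Agent.H70.Dl Subgroup Equiv
open Cfsg.Agent.SporadicA.PermTab Cfsg.Agent.HN.HS100 Cfsg.Agent.H852.IMHS Cfsg.Agent.H153.Zeros
open Cfsg.Agent.H724.IMTool (fus_card_eq)

universe u

/-- `X Y`, of order 8 -/
def t8 : ℕ := 0xa2130250470860fc2d0410780ec1f0620c218c2d85005a1642685f0521601402c0840d02402206e0841c82e03e0c00f04e03a0e8158540bc05c228230ac0940a05707a14c0982f02413c2901101e0380b06006a0602300c09202c2e00a0aa0241200d066110080070640540284b03809c0401b0060a81885d0040101b0400020e00d00003201813020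
/-- the vertices in increasing order of their rows, restricted to the base -/
def tO : ℕ := 0x3e0ac1e0310820a8030330a20a0280270840602985a0080bc278190480e800839092110098430a80080b02500e0402f85b02412c0e01508c0b00404e0c20241f82206e1482404503c06c1702601e1540704d0220f4200470c608c2601a05a15c2f0560700d83000b00a0840684a03a1602c8620680a41d8030ba05c2e00a0280c81f03500003018020
/-- its inverse -/
def tR : ℕ := 0x460401b819082074058090801500881203c070150470aa0c82d8590a20e01402107c050258310480ec1804a09015c2f82506a0141306101a1382601b0660680200f0b8018300010a40b40f83a0c41780705a0b00b02204f0440d00b0000c60bc0983d05c080280560141141e0070920fc138420560a40a8020300201b0390861740b85301811826803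

/-! ### The centralizer of an element of order 8 -/

theorem in8x : InG Q t8 := word_of (L := [tX, tY]) (mem3 inX inY inW) (by simp) (by decide +kernel)

/-- the base -/
def F8 : List ℕ := [3, 25, 16, 27, 51, 61, 43, 15]
/-- the rest of the base -/
def bs8 : List (ℕ × ℕ) := [(8, 1), (77, 1), (52, 1), (19, 1), (74, 1), (1, 1), (11, 1)]

theorem chain8 : chainB 100 adjA F8 bs8 = true := by decide +kernel
theorem dist8 : chkDist 100 adjA (maskL (lastF F8 bs8)) tR tO = true := by decide +kernel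

/-- the profile of a point -/
def prof (i : ℕ) : Bool :=
  Nat.beq (bitM 100 adjA i (ev [t8] i)) 1 && (Nat.beq (bitM 100 adjA i (ev [t8, t8] i)) 0 &&
    (Nat.beq (bitM 100 adjA i (ev [t8, t8, t8] i)) 0 && Nat.beq (bitM 100 adjA i (ev [t8, t8, t8, t8] i)) 0))

theorem cnt16 : cntB prof 100 16 = true := by decide +kernel
theorem prof3 : prof 3 = true := by decide +kernel

/-- the profile in terms of the powers of `x` -/
theorem prof_iff {x : Q} (hx : ∀ i : Fin 100, ((x : Perm (Fin 100)) i : ℕ) = lk t8 i) (i : Fin 100) :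
    prof i = true ↔ bitM 100 adjA i ((((x ^ 1 : Q) : Perm (Fin 100)) i : Fin 100) : ℕ) = 1 ∧
      bitM 100 adjA i ((((x ^ 2 : Q) : Perm (Fin 100)) i : Fin 100) : ℕ) = 0 ∧
      bitM 100 adjA i ((((x ^ 3 : Q) : Perm (Fin 100)) i : Fin 100) : ℕ) = 0 ∧
      bitM 100 adjA i ((((x ^ 4 : Q) : Perm (Fin 100)) i : Fin 100) : ℕ) = 0 := by
  rw [pow_of hx, pow_of hx, pow_of hx, pow_of hx]
  unfold prof
  rw [Bool.and_eq_true, Bool.and_eq_true, Bool.and_eq_true, nbq_iff, nbq_iff, nbq_iff, nbq_iff]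
  rfl

theorem prof_smul {x g : Q} (hx : ∀ i : Fin 100, ((x : Perm (Fin 100)) i : ℕ) = lk t8 i) (hg : g * x = x * g)
    {i : Fin 100} (h : prof i = true) : prof ((g : Perm (Fin 100)) i : Fin 100) = true := by
  rw [prof_iff hx] at h ⊢
  have key : ∀ k : ℕ, bitM 100 adjA ((g : Perm (Fin 100)) i : Fin 100)
      ((((x ^ k : Q) : Perm (Fin 100)) ((g : Perm (Fin 100)) i) : Fin 100) : ℕ) =
      bitM 100 adjA i ((((x ^ k : Q) : Perm (Fin 100)) i : Fin 100) : ℕ) := by
    intro k
    have h1 : g * x ^ k = x ^ k * g := ((show Commute g x from hg).pow_right k).eq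
    have h2 : (g : Perm (Fin 100)) (((x ^ k : Q) : Perm (Fin 100)) i) =
        ((x ^ k : Q) : Perm (Fin 100)) ((g : Perm (Fin 100)) i) :=
      congrArg (fun z : Q => (z : Perm (Fin 100)) i) h1
    rw [← h2]
    exact adj_eq i _
  rw [key, key, key, key]
  exact h

/-- **The centralizer of `X Y` has order at most 16.** -/
theorem card_le_16 {x : Q} (hx : ∀ i : Fin 100, ((x : Perm (Fin 100)) i : ℕ) = lk t8 i) :
    Nat.card (centralizer ({x} : Set Q)) ≤ 16 := by
  set H : Subgroup (Perm (Fin 100)) := (centralizer ({x} : Set Q)).map Q.subtype with hH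
  have h1 : Nat.card (centralizer ({x} : Set Q)) = Nat.card H :=
    Nat.card_congr ((centralizer ({x} : Set Q)).equivMapOfInjective _ Q.subtype_injective).toEquiv
  have hcom : ∀ g ∈ H, ∀ i : Fin 100, g i = i → g ((x : Perm (Fin 100)) i) = (x : Perm (Fin 100)) i := by
    rintro _ ⟨g, hg, rfl⟩ i hi
    have h4 : (g : Perm (Fin 100)) ((x : Perm (Fin 100)) i) = (x : Perm (Fin 100)) ((g : Perm (Fin 100)) i) :=
      congrArg (fun z : Q => (z : Perm (Fin 100)) i) (mem_centralizer_singleton_iff.1 hg)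
    show (g : Perm (Fin 100)) ((x : Perm (Fin 100)) i) = _
    rw [h4]
    exact congrArg _ hi
  have hxi : ∀ i j : Fin 100, lk t8 i = j → (x : Perm (Fin 100)) i = j := fun i j h => Fin.ext ((hx i).trans h)
  have hle : H ≤ autG 100 adjA := by
    rintro _ ⟨g, -, rfl⟩
    exact Q_le g.2
  have h6 : Nat.card (ps H 3) ≤ prodC bs8 := by
    refine card_le_of_chain bs8 F8 (ps H 3) ((ps_le _ _).trans hle) ?_ chain8
      (fun g hg h => eq_one_of_dist dist8 g hg h)
    have nx : ∀ i j : Fin 100, lk t8 i = j → (∀ g ∈ ps H 3, g i = i) → ∀ g ∈ ps H 3, g j = j := by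
      intro i j hij h g hg
      have := hcom g hg.1 i (h g hg)
      rwa [hxi i j hij] at this
    have e0 : ∀ g ∈ ps H 3, g 3 = 3 := fun g hg => hg.2
    have e1 := nx 3 25 (by decide +kernel) e0
    have e2 := nx 25 16 (by decide +kernel) e1
    have e3 := nx 16 27 (by decide +kernel) e2
    have e4 := nx 27 51 (by decide +kernel) e3
    have e5 := nx 51 61 (by decide +kernel) e4
    have e6 := nx 61 43 (by decide +kernel) e5
    have e7 := nx 43 15 (by decide +kernel) e6
    intro f hf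
    simp only [F8, List.mem_cons, List.not_mem_nil, or_false] at hf
    rcases hf with rfl | rfl | rfl | rfl | rfl | rfl | rfl | rfl
    · exact ⟨by norm_num, fun g hg i hi => by rw [show i = 3 from Fin.ext hi]; exact e0 g hg⟩
    · exact ⟨by norm_num, fun g hg i hi => by rw [show i = 25 from Fin.ext hi]; exact e1 g hg⟩
    · exact ⟨by norm_num, fun g hg i hi => by rw [show i = 16 from Fin.ext hi]; exact e2 g hg⟩
    · exact ⟨by norm_num, fun g hg i hi => by rw [show i = 27 from Fin.ext hi]; exact e3 g hg⟩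
    · exact ⟨by norm_num, fun g hg i hi => by rw [show i = 51 from Fin.ext hi]; exact e4 g hg⟩
    · exact ⟨by norm_num, fun g hg i hi => by rw [show i = 61 from Fin.ext hi]; exact e5 g hg⟩
    · exact ⟨by norm_num, fun g hg i hi => by rw [show i = 43 from Fin.ext hi]; exact e6 g hg⟩
    · exact ⟨by norm_num, fun g hg i hi => by rw [show i = 15 from Fin.ext hi]; exact e7 g hg⟩
  rw [h1]
  refine (card_le H 3 ((Finset.univ : Finset (Fin 100)).filter (fun i : Fin 100 => prof i = true)) (m := 16)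
    (k := 1) ?_ (card_fin_of_cntB _ 100 16 cnt16) h6).trans (by norm_num)
  rintro _ ⟨g, hg, rfl⟩
  rw [Finset.mem_filter]
  exact ⟨Finset.mem_univ _, prof_smul hx (mem_centralizer_singleton_iff.1 hg) (i := 3) prof3⟩

/-! ### Elements -/

theorem el_of {L : List ℕ} (hL : ∀ P ∈ L, P = tX ∨ P = tY ∨ P = tW) {m : ℕ} (hm : 0 < m) (ps : List ℕ)
    (hps : ∀ p ∈ m.primeFactors, p ∈ ps) (hchk : ordChk 100 L m ps = true) :
    ∃ g : Q, orderOf g = m ∧ ∀ i : Fin 100, ((g : Perm (Fin 100)) i : ℕ) = ev L i := by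
  have h : ∀ P ∈ L, InG Q P := fun P hP => mem3 inX inY inW P (by simpa using hL P hP)
  obtain ⟨g, hg, hgi⟩ := exists_ev L h
  rw [ordChk, band_eq_true, List.all_eq_true] at hchk
  refine ⟨⟨g, hg⟩, orderOf_eq_of_pow_and_pow_div_prime hm ?_ (fun p hp hd => ?_), hgi⟩
  · exact Subtype.ext ((pow_eq_one_iff hgi m).2 hchk.1)
  · intro h1
    have h2 := hchk.2 p (hps p (Nat.mem_primeFactors.2 ⟨hp, hd, hm.ne'⟩))
    rw [(pow_eq_one_iff hgi (m / p)).1 (congrArg Subtype.val h1)] at h2
    exact absurd h2 (by decide)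

/-- the number of fixed points of `g ^ k` -/
noncomputable def fxn (k : ℕ) (g : Q) : ℕ :=
  ((Finset.univ : Finset (Fin 100)).filter fun i => ((g : Perm (Fin 100)) ^ k) i = i).card

theorem fxn_conj {k : ℕ} {a b : Q} (h : IsConj a b) : fxn k a = fxn k b := by
  obtain ⟨c, rfl⟩ := isConj_iff.1 h
  unfold fxn
  refine Finset.card_bij (fun i _ => (c : Perm (Fin 100)) i) ?_ ?_ ?_
  · intro i hi
    rw [Finset.mem_filter] at hi ⊢
    refine ⟨Finset.mem_univ _, ?_⟩
    show ((((c : Perm (Fin 100)) * a * (c : Perm (Fin 100))⁻¹)) ^ k) ((c : Perm (Fin 100)) i) = _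
    have e : (c : Perm (Fin 100))⁻¹ ((c : Perm (Fin 100)) i) = i := Equiv.symm_apply_apply _ _
    rw [conj_pow, Perm.mul_apply, Perm.mul_apply, e, hi.2]
  · intro i _ j _ h
    exact (c : Perm (Fin 100)).injective h
  · intro j hj
    refine ⟨(c : Perm (Fin 100))⁻¹ j, ?_, Equiv.apply_symm_apply (c : Perm (Fin 100)) j⟩
    rw [Finset.mem_filter] at hj ⊢
    refine ⟨Finset.mem_univ _, ?_⟩
    have h2 : ((((c : Perm (Fin 100)) * a * (c : Perm (Fin 100))⁻¹)) ^ k) j = j := hj.2
    rw [conj_pow, Perm.mul_apply, Perm.mul_apply] at h2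
    rw [← Perm.eq_inv_iff_eq] at h2
    exact h2

theorem fxn_eq {g : Q} {L : List ℕ} (hg : ∀ i : Fin 100, ((g : Perm (Fin 100)) i : ℕ) = ev L i) {k m : ℕ}
    (h : cntB (fun i => Nat.beq (itr (ev L) k i) i) 100 m = true) : fxn k g = m := by
  rw [← card_fin_of_cntB _ 100 m h, fxn]
  congr 1
  refine Finset.filter_congr fun i _ => ?_
  rw [nbq_iff, ← Cfsg.Agent.H153.Zeros.pow_eq hg, Fin.ext_iff]

theorem ne_of_fxn {a b : Q} {k m n : ℕ} (ha : fxn k a = m) (hb : fxn k b = n) (h : m ≠ n) : ¬ IsConj a b :=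
  fun hc => h (by rw [← ha, ← hb, fxn_conj hc])

theorem cls1 : Cls Q 1 1 := Cls.one orderOf_one

theorem cls2 : Cls Q 2 2 := by
  obtain ⟨a, ha, ha'⟩ := el_of (L := [tY, tY, tY]) (by simp) (m := 2) (by norm_num) [2] (by decide +kernel) (by decide +kernel)
  obtain ⟨b, hb, hb'⟩ := el_of (L := [tX]) (by simp) (m := 2) (by norm_num) [2] (by decide +kernel) (by decide +kernel)
  exact Cls.two ha hb (ne_of_fxn (k := 1) (m := 20) (n := 0) (fxn_eq ha' (by decide +kernel))
    (fxn_eq hb' (by decide +kernel)) (by norm_num))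

theorem cls4 : Cls Q 4 3 := by
  obtain ⟨a, ha, ha'⟩ := el_of (L := [tX, tY, tX, tY]) (by simp) (m := 4) (by norm_num) [2] (by decide +kernel)
    (by decide +kernel)
  obtain ⟨b, hb, hb'⟩ := el_of (L := [tX, tY, tX, tW, tW]) (by simp) (m := 4) (by norm_num) [2] (by decide +kernel)
    (by decide +kernel)
  obtain ⟨c, hc, hc'⟩ := el_of (L := [tX, tY, tX, tY, tX, tY, tY]) (by simp) (m := 4) (by norm_num) [2] (by decide +kernel)
    (by decide +kernel)
  have h1 : fxn 1 a = 4 := fxn_eq ha' (by decide +kernel)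
  have h2 : fxn 1 b = 8 := fxn_eq hb' (by decide +kernel)
  have h3 : fxn 1 c = 0 := fxn_eq hc' (by decide +kernel)
  exact Cls.three ha hb hc (ne_of_fxn h1 h2 (by norm_num)) (ne_of_fxn h1 h3 (by norm_num)) (ne_of_fxn h2 h3 (by norm_num))

theorem cls5 : Cls Q 5 2 := by
  obtain ⟨a, ha, ha'⟩ := el_of (L := [tY, tW]) (by simp) (m := 5) (by norm_num) [5] (by decide +kernel) (by decide +kernel)
  obtain ⟨b, hb, hb'⟩ := el_of (L := [tX, tY, tY, tX, tY, tY]) (by simp) (m := 5) (by norm_num) [5] (by decide +kernel)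
    (by decide +kernel)
  exact Cls.two ha hb (ne_of_fxn (k := 1) (m := 5) (n := 0) (fxn_eq ha' (by decide +kernel))
    (fxn_eq hb' (by decide +kernel)) (by norm_num))

theorem cls6 : Cls Q 6 2 := by
  obtain ⟨a, ha, ha'⟩ := el_of (L := [tY]) (by simp) (m := 6) (by norm_num) [2, 3] (by decide +kernel) (by decide +kernel)
  obtain ⟨b, hb, hb'⟩ := el_of (L := [tX, tY, tW, tY, tW]) (by simp) (m := 6) (by norm_num) [2, 3] (by decide +kernel)
    (by decide +kernel)
  exact Cls.two ha hb (ne_of_fxn (k := 1) (m := 2) (n := 0) (fxn_eq ha' (by decide +kernel))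
    (fxn_eq hb' (by decide +kernel)) (by norm_num))

theorem cls8 : Cls Q 8 2 := by
  obtain ⟨a, ha, ha'⟩ := el_of (L := [tX, tY, tW]) (by simp) (m := 8) (by norm_num) [2] (by decide +kernel) (by decide +kernel)
  obtain ⟨b, hb, hb'⟩ := el_of (L := [tX, tY]) (by simp) (m := 8) (by norm_num) [2] (by decide +kernel)
    (by decide +kernel)
  exact Cls.two ha hb (ne_of_fxn (k := 1) (m := 2) (n := 0) (fxn_eq ha' (by decide +kernel))
    (fxn_eq hb' (by decide +kernel)) (by norm_num))

theorem cls10 : Cls Q 10 2 := by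
  obtain ⟨a, ha, ha'⟩ := el_of (L := [tX, tY, tX, tY, tY, tW, tY, tW, tY]) (by simp) (m := 10) (by norm_num) [2, 5]
    (by decide +kernel) (by decide +kernel)
  obtain ⟨b, hb, hb'⟩ := el_of (L := [tX, tY, tY]) (by simp) (m := 10) (by norm_num) [2, 5] (by decide +kernel)
    (by decide +kernel)
  exact Cls.two ha hb (ne_of_fxn (k := 5) (m := 20) (n := 0) (fxn_eq ha' (by decide +kernel))
    (fxn_eq hb' (by decide +kernel)) (by norm_num))

theorem cls_one {L : List ℕ} (hL : ∀ P ∈ L, P = tX ∨ P = tY ∨ P = tW) {m : ℕ} (hm : 0 < m) (ps : List ℕ)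
    (hps : ∀ p ∈ m.primeFactors, p ∈ ps) (hchk : ordChk 100 L m ps = true) : Cls Q m 1 := by
  obtain ⟨a, ha, -⟩ := el_of hL hm ps hps hchk
  exact Cls.one ha

theorem cls_prime {p : ℕ} [hp : Fact p.Prime] (h : p ∣ 44352000) : Cls Q p 1 := by
  have hfin : Finite Q := Nat.finite_of_card_ne_zero (by rw [Cfsg.Agent.HN.AutBound.card_Q]; norm_num)
  obtain ⟨x, hx⟩ := exists_prime_orderOf_dvd_card' (G := Q) p (by rw [Cfsg.Agent.HN.AutBound.card_Q]; exact h)
  exact Cls.one hx

theorem cls11 : Cls Q 11 2 := by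
  have hQ : Nat.card Q = 44352000 := Cfsg.Agent.HN.AutBound.card_Q
  obtain ⟨⟨f⟩, hs⟩ := Cfsg.Agent.HN.AutHS.nonempty_Q
  have hiso : Spor.IsoHS Q := ⟨f⟩
  have hfin : Finite Q := Nat.finite_of_card_ne_zero (by rw [hQ]; norm_num)
  have h11 : Fact (Nat.Prime 11) := ⟨by norm_num⟩
  obtain ⟨x, hx⟩ := exists_prime_orderOf_dvd_card' (G := Q) 11 (by rw [hQ]; norm_num)
  refine Cls.of_fus hx ?_
  rw [fus_card_eq (p := 11) (e := 5) (c := 1) ?_ hx (by rw [H904.HSIso.card_eleven hiso hx]) (by rw [hQ]; decide)]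
  · norm_num
  · rw [hQ]
    refine le_antisymm ?_ ((Nat.Prime.dvd_iff_one_le_factorization h11.out (by norm_num)).1 (by norm_num))
    by_contra h
    push Not at h
    have h2 := (Nat.pow_dvd_pow 11 h).trans (Nat.ordProj_dvd 44352000 11)
    exact absurd h2 (by norm_num)

theorem classes : 21 ≤ Nat.card (ConjClasses Q) := by
  have hfin : Finite Q := Nat.finite_of_card_ne_zero (by rw [Cfsg.Agent.HN.AutBound.card_Q]; norm_num)
  have h3 : Fact (Nat.Prime 3) := ⟨by norm_num⟩
  have h7 : Fact (Nat.Prime 7) := ⟨by norm_num⟩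
  have h1 := sum_le_classes (G := Q) {1, 2, 3, 4, 5, 6, 7, 8, 10, 11, 12, 15, 20}
    (fun n => if n = 4 then 3 else if n = 2 ∨ n = 5 ∨ n = 6 ∨ n = 8 ∨ n = 10 ∨ n = 11 then 2 else 1) (by
    intro n hn
    simp only [Finset.mem_insert, Finset.mem_singleton] at hn
    rcases hn with rfl | rfl | rfl | rfl | rfl | rfl | rfl | rfl | rfl | rfl | rfl | rfl | rfl
    · exact cls1
    · exact cls2
    · exact cls_prime (by norm_num)
    · exact cls4
    · exact cls5
    · exact cls6
    · exact cls_prime (by norm_num)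
    · exact cls8
    · exact cls10
    · exact cls11
    · exact cls_one (L := [tX, tY, tY, tY]) (by simp) (by norm_num) [2, 3] (by decide +kernel) (by decide +kernel)
    · exact cls_one (L := [tX, tY, tY, tY, tY, tW, tY, tW]) (by simp) (by norm_num) [3, 5] (by decide +kernel)
        (by decide +kernel)
    · exact cls_one (L := [tX, tY, tY, tW, tY]) (by simp) (by norm_num) [2, 5] (by decide +kernel) (by decide +kernel))
  refine le_trans (le_of_eq ?_) h1
  decide

theorem many_Q : Many 2 Q 3 := by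
  have h2 : Fact (Nat.Prime 2) := ⟨Nat.prime_two⟩
  have hQ : Nat.card Q = 44352000 := Cfsg.Agent.HN.AutBound.card_Q
  obtain ⟨⟨f⟩, hs⟩ := Cfsg.Agent.HN.AutHS.nonempty_Q
  have hfin : Finite Q := Nat.finite_of_card_ne_zero (by rw [hQ]; norm_num)
  obtain ⟨x, hx⟩ := exists_el in8x
  have hxo : orderOf x = 2 ^ 3 := by
    obtain ⟨b, hb, hb'⟩ := el_of (L := [tX, tY]) (by simp) (m := 8) (by norm_num) [2] (by decide +kernel)
      (by decide +kernel)
    have h1 : x = b := by
      apply Subtype.ext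
      refine Equiv.ext fun i => Fin.ext ?_
      rw [hx, hb']
      revert i
      decide +kernel
    rw [h1, hb]
    norm_num
  have h1 := card_le_16 hx
  have h3 : 2 ^ 3 ∣ Nat.card (centralizer ({x} : Set Q)) := by
    rw [← hxo, ← Nat.card_zpowers]
    exact Subgroup.card_dvd_of_le (zpowers_le.2 (mem_centralizer_singleton_iff.2 rfl))
  have h4 : Nat.card (centralizer ({x} : Set Q)) = 8 ∨ Nat.card (centralizer ({x} : Set Q)) = 16 := by
    have h5 : 0 < Nat.card (centralizer ({x} : Set Q)) := Nat.card_pos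
    omega
  obtain ⟨n, hn, hn'⟩ : ∃ n : ℕ, Nat.card (centralizer ({x} : Set Q)) = 2 ^ n ∧ 2 ^ n ≤ 16 := by
    rcases h4 with h4 | h4
    · exact ⟨3, by rw [h4]; norm_num, by norm_num⟩
    · exact ⟨4, by rw [h4]; norm_num, by norm_num⟩
  have h5 := classes
  refine many_of_classes (p := 2) (x := x) ⟨3, hxo⟩ hn (out_le_two ⟨f⟩ S2072.result (by norm_num)) (by omega)

theorem many_hs {S : Type u} [Group S] (h : Spor.IsoHS S) : Many 2 S 3 := by
  obtain ⟨e⟩ := h
  obtain ⟨⟨f⟩, -⟩ := Cfsg.Agent.HN.AutHS.nonempty_Q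
  exact Many.of_equiv (e.trans f.symm) many_Q

/-- **`HS`** -/
theorem row_hs (T : FactTwo.{u}) (I : H671.H5.FactIM.{u}) : RowF.{u} (fun S => Spor.IsoHS S) := by
  intro S _ _ _ h p hp hd
  have hcard : Nat.card S = 44352000 := NotCT.Orders.hs h
  by_cases hp2 : p = 2
  · subst hp2
    have h2 : Fact (Nat.Prime 2) := ⟨Nat.prime_two⟩
    exact ⟨3, dlLe_three (p := 2) (a := 9) (by norm_num) (by rw [hcard]; norm_num), many_hs h⟩
  refine row_of_arith T I hcard (by norm_num) hp hd fun h6 => ?_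
  have h7 : p ^ 6 ≤ 44352000 := Nat.le_of_dvd (by norm_num) h6
  have h8 : p ≤ 18 := by
    by_contra hcon
    have : 19 ^ 6 ≤ p ^ 6 := Nat.pow_le_pow_left (by omega) 6
    omega
  have h2 := hp.two_le
  interval_cases p <;> first | exact absurd rfl hp2 | (revert h6; norm_num)

end Cfsg.Agent.H70.Dl.HS
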