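import Cfsg.Agent.H70.Dl.Classes
import Cfsg.Agent.H714.JRows
import Cfsg.Agent.S2066

/-!
# S4769: the row of `J₂` (helper70)
-/

set_option autoImplicit false

open Cfsg

namespace Cfsg.Agent.H70.Dl.JTwo

open Cfsg.Agent.H246.Dl Cfsg.Agent.H596.OneFacts Cfsg.Agent.H651.Two Cfsg.Agent.H759.Dl Cfsg.Agent.H680.Dl
open Cfsg.Agent.H70.Dl Subgroup

universe u

theorem many_j2 {K : Type u} [Group K] [Finite K] (h : Spor.IsoJ2 K) : Many 2 K 3 := by
  have h2 : Fact (Nat.Prime 2) := ⟨Nat.prime_two⟩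
  have h1 := H714.JRows.card_classes_j2 h
  obtain ⟨t, u, Q, v, ρ, D⟩ := KFacts.J2.Facts.exists_dat_of h
  obtain ⟨x, hx, hx4⟩ := H714.JRows.exists_eight' D.M
  have hxt : (x : K) ^ 4 = t := congrArg Subtype.val hx4
  have h8 : orderOf (x : K) = 8 := by rw [Subgroup.orderOf_coe, H714.JRows.orderOf_eight D.M hx4]
  have h3 : centralizer ({(x : K)} : Set K) = zpowers (x : K) := by
    refine le_antisymm (fun g hg => ?_) (zpowers_le.2 (mem_centralizer_singleton_iff.2 rfl))
    have hg' : g * (x : K) = x * g := mem_centralizer_singleton_iff.1 hg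
    have hgt : g ∈ centralizer ({t} : Set K) := by
      rw [mem_centralizer_singleton_iff]
      have h2 := ((show Commute g (x : K) from hg').pow_right 4).eq
      rwa [hxt] at h2
    have h1 := H714.JRows.cent_eight D.M hx hx4 (g := ⟨g, hgt⟩) (Subtype.ext hg')
    obtain ⟨k, hk⟩ := mem_zpowers_iff.1 h1
    exact mem_zpowers_iff.2 ⟨k, congrArg Subtype.val hk⟩
  refine many_of_classes (p := 2) (x := (x : K)) (n := 3) ⟨3, by rw [h8]; norm_num⟩ ?_ ?_ (by omega)
  · rw [h3, Nat.card_zpowers, h8]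
    norm_num
  · exact out_le_two h S2066.result (by norm_num)

/-- **`J₂`** -/
theorem row_j2 (T : FactTwo.{u}) (I : H671.H5.FactIM.{u}) : RowF.{u} (fun S => Spor.IsoJ2 S) := by
  intro S _ _ _ h p hp hd
  have hcard := NotCT.Orders.j2 h
  by_cases hp2 : p = 2
  · subst hp2
    have h2 : Fact (Nat.Prime 2) := ⟨Nat.prime_two⟩
    exact ⟨3, dlLe_three (p := 2) (a := 7) (by norm_num) (by rw [hcard]; norm_num), many_j2 h⟩
  refine row_of_arith T I hcard (by norm_num) hp hd fun h6 => ?_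
  have h7 : p ^ 6 ≤ 604800 := Nat.le_of_dvd (by norm_num) h6
  have h8 : p ≤ 10 := by
    by_contra hcon
    have : 11 ^ 6 ≤ p ^ 6 := Nat.pow_le_pow_left (by omega) 6
    omega
  have h2 := hp.two_le
  interval_cases p <;> first | exact absurd rfl hp2 | (revert h6; norm_num)

end Cfsg.Agent.H70.Dl.JTwo
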