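import Cfsg.Agent.H70.Dl.Classes
import Cfsg.Agent.H724.IMJOne
import Cfsg.Agent.H724.IMJThree
import Cfsg.Agent.H417.JThreeCols
import Cfsg.Agent.S2067

/-!
# S4769: the rows of `J₁` and `J₃` (helper70)
-/

set_option autoImplicit false

open Cfsg

namespace Cfsg.Agent.H70.Dl.Janko

open Cfsg.Agent.H246.Dl Cfsg.Agent.H596.OneFacts Cfsg.Agent.H651.Two Cfsg.Agent.H759.Dl Cfsg.Agent.H680.Dl
open Cfsg.Agent.H713.Count Cfsg.Agent.H70.Dl Cfsg.Agent.J3Type.CodeGroup
open Cfsg.Agent.H724.IMJThree (card_j3 exists_ord fac)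
open Cfsg.Agent.H724.IMTool (fus_card_eq)

universe u

/-- **`J₁`** -/
theorem row_j1 (T : FactTwo.{u}) (I : H671.H5.FactIM.{u}) : RowF.{u} (fun S => Spor.IsoJ1 S) := by
  intro S _ _ _ h p hp hd
  have hcard : Nat.card S = 175560 := by
    obtain ⟨e⟩ := h
    rw [Nat.card_congr e.toEquiv, H724.IMJOne.card_j1]
  refine row_of_arith T I hcard (by norm_num) hp hd fun h6 => ?_
  have h7 : p ^ 6 ≤ 175560 := Nat.le_of_dvd (by norm_num) h6
  have h8 : p ≤ 8 := by
    by_contra hcon
    have : 9 ^ 6 ≤ p ^ 6 := Nat.pow_le_pow_left (by omega) 6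
    omega
  have h2 := hp.two_le
  interval_cases p <;> revert h6 <;> norm_num

/-- two classes of elements of order 19 in `J₃` -/
theorem cls_nineteen {K : Type u} [Group K] [Finite K] (h : Spor.IsoJ3 K) : Cls K 19 2 := by
  have h19 : Fact (Nat.Prime 19) := ⟨by norm_num⟩
  obtain ⟨g, hg⟩ := exists_ord h (n := 19) (by decide)
  refine Cls.of_fus hg ?_
  rw [fus_card_eq (p := 19) (e := 9) (c := 1) (fac h (by norm_num) (by norm_num)) hg
    (by rw [H898.J3Cent.card_nineteen h hg]) (by rw [card_j3 h]; decide)]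
  norm_num

theorem classes_j3 {K : Type u} [Group K] [Finite K] (h : Spor.IsoJ3 K) : 13 ≤ Nat.card (ConjClasses K) := by
  obtain ⟨t, D, hD, -⟩ := H417.JThreeCols.exists_coded_iso h
  have h1 := sum_le_classes (G := K) {1, 2, 3, 4, 5, 6, 8, 10, 12, 17, 19} (fun n => if n = 10 ∨ n = 19 then 2 else 1) (by
    intro n hn
    by_cases h10 : n = 10
    · subst h10
      exact Cls.two hD.order10a hD.order10b hD.not_conj
    by_cases h19 : n = 19
    · subst h19
      exact cls_nineteen h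
    · rw [if_neg (by tauto)]
      obtain ⟨g, hg⟩ := exists_ord h hn
      exact Cls.one hg)
  refine le_trans (le_of_eq ?_) h1
  decide

theorem out_j3 {K : Type u} [Group K] (h : Spor.IsoJ3 K) : Nat.card (Out K) ≤ 2 := by
  obtain ⟨F, _, _, ω, hF, hω, h⟩ := h
  exact out_le_two h (S2067.result hF ω hω) (by norm_num)

theorem many_j3 {K : Type u} [Group K] [Finite K] (h : Spor.IsoJ3 K) : Many 2 K 3 := by
  have h2 : Fact (Nat.Prime 2) := ⟨Nat.prime_two⟩
  obtain ⟨t, D, hD, -⟩ := H417.JThreeCols.exists_coded_iso h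
  have h1 := classes_j3 h
  have h3 : Nat.card (Subgroup.centralizer ({D 97} : Set K)) = 2 ^ 3 := by
    rw [hD.card_centralizer (by norm_num) hD.pow8, Cfsg.Agent.J3Type.CodeFacts.card_cm8]
    norm_num
  refine many_of_classes (p := 2) (x := D 97) ⟨3, by rw [hD.order8]; norm_num⟩ h3
    (out_j3 h) (by omega)

/-- **`J₃`** -/
theorem row_j3 (T : FactTwo.{u}) (I : H671.H5.FactIM.{u}) : RowF.{u} (fun S => Spor.IsoJ3 S) := by
  intro S _ _ _ h p hp hd
  have hcard := card_j3 h
  by_cases hp2 : p = 2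
  · subst hp2
    have h2 : Fact (Nat.Prime 2) := ⟨Nat.prime_two⟩
    exact ⟨3, dlLe_three (p := 2) (a := 7) (by norm_num) (by rw [hcard]; norm_num), many_j3 h⟩
  refine row_of_arith T I hcard (by norm_num) hp hd fun h6 => ?_
  have h7 : p ^ 6 ≤ 50232960 := Nat.le_of_dvd (by norm_num) h6
  have h8 : p ≤ 20 := by
    by_contra hcon
    have : 21 ^ 6 ≤ p ^ 6 := Nat.pow_le_pow_left (by omega) 6
    omega
  have h2 := hp.two_le
  interval_cases p <;> first | exact absurd rfl hp2 | (revert h6; norm_num)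

end Cfsg.Agent.H70.Dl.Janko
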