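import Cfsg.Agent.H246.Dl.Defs

/-!
# Derived lengths of Sylow subgroups: tools (helper70)

* `DlLe.of_sylow` : it is enough to consider one Sylow subgroup;
* `DlLe.of_index` : subgroups of index prime to `p`;
* `chain` : bounds for the derived series of a subgroup;
* `dlLe_two_of_abelian` : an abelian `p`-subgroup `A` with `|N(A) : A|_p = p²`.
-/

set_option autoImplicit false

namespace Cfsg.Agent.H70.Dl

open Cfsg.Agent.H246.Dl Subgroup
open scoped commutatorElement

variable {S : Type*} [Group S]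

theorem derivedSeries_of_equiv {A B : Type*} [Group A] [Group B] (e : A ≃* B) {d : ℕ}
    (h : derivedSeries B d = ⊥) : derivedSeries A d = ⊥ := by
  have h1 : (derivedSeries A d).map e.toMonoidHom ≤ derivedSeries B d :=
    map_derivedSeries_le_derivedSeries e.toMonoidHom d
  rw [h, le_bot_iff, Subgroup.map_eq_bot_iff_of_injective _ e.injective] at h1
  exact h1

/-- One Sylow subgroup. -/
theorem DlLe.of_sylow [Finite S] {p d : ℕ} [Fact p.Prime] (P : Sylow p S)
    (h : derivedSeries ↥(P : Subgroup S) d = ⊥) : DlLe p d S := by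
  intro Q
  exact derivedSeries_of_equiv (Sylow.equiv Q P) h

/-- The derived series of `T` in `G`. -/
theorem map_derivedSeries_succ {T : Subgroup S} {n : ℕ} :
    (derivedSeries ↥T (n + 1)).map T.subtype = ⁅(derivedSeries ↥T n).map T.subtype, (derivedSeries ↥T n).map T.subtype⁆ := by
  rw [derivedSeries_succ, Subgroup.map_commutator]

/-- **A chain of subgroups bounding the derived series.** -/
theorem chain {T : Subgroup S} (N : ℕ → Subgroup S) (h0 : T ≤ N 0) (hs : ∀ i, ⁅N i, N i⁆ ≤ N (i + 1)) {d : ℕ}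
    (hd : N d = ⊥) : derivedSeries ↥T d = ⊥ := by
  have h1 : ∀ i, (derivedSeries ↥T i).map T.subtype ≤ N i := by
    intro i
    induction i with
    | zero =>
      rw [derivedSeries_zero, ← MonoidHom.range_eq_map, Subgroup.range_subtype]
      exact h0
    | succ i ih =>
      rw [map_derivedSeries_succ]
      exact (Subgroup.commutator_mono ih ih).trans (hs i)
  have h2 := h1 d
  rw [hd, le_bot_iff, Subgroup.map_eq_bot_iff_of_injective _ T.subtype_injective] at h2
  exact h2

theorem chain_two {T A : Subgroup S} (h1 : ⁅T, T⁆ ≤ A) (h2 : ⁅A, A⁆ = ⊥) : derivedSeries ↥T 2 = ⊥ := by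
  refine chain (fun i => if i = 0 then T else if i = 1 then A else ⊥) ?_ ?_ (d := 2) ?_
  · simp
  · intro i
    rcases i with _ | _ | i
    · simpa using h1
    · simp [h2]
    · simp
  · simp

theorem chain_three {T R V : Subgroup S} (h1 : ⁅T, T⁆ ≤ R) (h2 : ⁅R, R⁆ ≤ V) (h3 : ⁅V, V⁆ = ⊥) :
    derivedSeries ↥T 3 = ⊥ := by
  refine chain (fun i => if i = 0 then T else if i = 1 then R else if i = 2 then V else ⊥) ?_ ?_ (d := 3) ?_
  · simp
  · intro i
    rcases i with _ | _ | _ | i
    · simpa using h1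
    · simpa using h2
    · simp [h3]
    · simp
  · simp

theorem commutator_eq_bot_of_comm {A : Subgroup S} (h : ∀ a ∈ A, ∀ b ∈ A, a * b = b * a) : ⁅A, A⁆ = ⊥ := by
  rw [eq_bot_iff, Subgroup.commutator_le]
  intro a ha b hb
  rw [Subgroup.mem_bot, commutatorElement_def, h a ha b hb, mul_assoc, mul_assoc, mul_inv_cancel_left, mul_inv_cancel]

/-- A subgroup of index prime to `p`. -/
theorem DlLe.of_index [Finite S] {p d : ℕ} [hp : Fact p.Prime] {H : Subgroup S} (hH : ¬ p ∣ H.index)
    (h : DlLe p d H) : DlLe p d S := by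
  obtain ⟨P⟩ : Nonempty (Sylow p H) := inferInstance
  have hc : Nat.card ((P : Subgroup H).map H.subtype) = p ^ (Nat.card S).factorization p := by
    have h1 : Nat.card ((P : Subgroup H).map H.subtype) = Nat.card P :=
      (Nat.card_congr ((P : Subgroup H).equivMapOfInjective _ H.subtype_injective).toEquiv).symm
    rw [h1, P.card_eq_multiplicity]
    congr 1
    rw [← H.card_mul_index, Nat.factorization_mul Nat.card_pos.ne' Subgroup.index_ne_zero_of_finite,
      Finsupp.add_apply, Nat.factorization_eq_zero_of_not_dvd hH, add_zero]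
  let Q : Sylow p S := Sylow.ofCard _ hc
  refine DlLe.of_sylow Q ?_
  exact derivedSeries_of_equiv ((P : Subgroup H).equivMapOfInjective _ H.subtype_injective).symm (h P)

/-- **An abelian `p`-subgroup `A` with `|N(A) : A|_p = p²` and `|G|_p = p² |A|`.** -/
theorem dlLe_two_of_abelian [Finite S] {p k : ℕ} [hp : Fact p.Prime] {A : Subgroup S}
    (hab : ∀ a ∈ A, ∀ b ∈ A, a * b = b * a) (hA : Nat.card A = p ^ k)
    (hN : p ^ (k + 2) ∣ Nat.card (normalizer (A : Set S))) (hS : (Nat.card S).factorization p = k + 2) :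
    DlLe p 2 S := by
  set N := normalizer (A : Set S) with hNd
  have hAN : A ≤ N := Subgroup.le_normalizer
  have hn : (A.subgroupOf N).Normal := Subgroup.normal_in_normalizer
  have hpA : IsPGroup p (A.subgroupOf N) :=
    (IsPGroup.iff_card.2 ⟨k, hA⟩ : IsPGroup p A).comap_of_injective N.subtype N.subtype_injective
  obtain ⟨P, hP⟩ := hpA.exists_le_sylow
  have h1 : Nat.card ((P : Subgroup N).map N.subtype) = Nat.card P :=
    (Nat.card_congr ((P : Subgroup N).equivMapOfInjective _ N.subtype_injective).toEquiv).symm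
  have h2 : p ^ (k + 2) ∣ Nat.card P := P.pow_dvd_card_of_pow_dvd_card hN
  have h3 : Nat.card P ∣ p ^ (k + 2) := by
    obtain ⟨n, hn'⟩ := IsPGroup.iff_card.1 P.isPGroup'
    have h4 : p ^ n ∣ Nat.card S := by
      rw [← hn', ← h1]
      exact Subgroup.card_subgroup_dvd_card _
    rw [hn']
    refine Nat.pow_dvd_pow p ?_
    rw [← hS]
    exact (hp.out.pow_dvd_iff_le_factorization Nat.card_pos.ne').1 h4
  have h5 : Nat.card P = p ^ (k + 2) := Nat.dvd_antisymm h3 h2
  let Q : Sylow p S := Sylow.ofCard ((P : Subgroup N).map N.subtype) (by rw [h1, h5, hS])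
  refine DlLe.of_sylow Q ?_
  show derivedSeries ↥((P : Subgroup N).map N.subtype) 2 = ⊥
  refine chain_two (A := A) ?_ (commutator_eq_bot_of_comm hab)
  -- the quotient has order `p²`
  have hle : A.subgroupOf N ≤ (P : Subgroup N) := hP
  obtain ⟨P0, hP0⟩ : ∃ P0 : Subgroup N, P0 = (P : Subgroup N) := ⟨_, rfl⟩
  rw [← hP0] at hle ⊢
  have h5 : Nat.card P0 = p ^ (k + 2) := by rw [hP0]; exact h5
  set A' : Subgroup P0 := (A.subgroupOf N).subgroupOf P0 with hA'
  have hn' : A'.Normal := inferInstance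
  have hcA : Nat.card A' = p ^ k := by
    rw [hA', Nat.card_congr (Subgroup.subgroupOfEquivOfLe hle).toEquiv,
      Nat.card_congr (Subgroup.subgroupOfEquivOfLe hAN).toEquiv, hA]
  have hq : Nat.card (P0 ⧸ A') = p ^ 2 := by
    have h6 := Subgroup.card_eq_card_quotient_mul_card_subgroup A'
    rw [h5, hcA, pow_add, mul_comm] at h6
    exact (Nat.eq_of_mul_eq_mul_right (pow_pos hp.out.pos k) h6).symm
  have hcomm : ∀ a b : P0 ⧸ A', a * b = b * a := (IsPGroup.commGroupOfCardEqPrimeSq (p := p) hq).mul_comm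
  rw [Subgroup.commutator_le]
  rintro _ ⟨x, hx, rfl⟩ _ ⟨y, hy, rfl⟩
  have h7 : (⁅(⟨x, hx⟩ : P0), (⟨y, hy⟩ : P0)⁆ : P0) ∈ A' := by
    rw [← QuotientGroup.eq_one_iff, commutatorElement_def]
    show (QuotientGroup.mk (⟨x, hx⟩ : P0) : P0 ⧸ A') * QuotientGroup.mk (⟨y, hy⟩ : P0) *
      (QuotientGroup.mk (⟨x, hx⟩ : P0))⁻¹ * (QuotientGroup.mk (⟨y, hy⟩ : P0))⁻¹ = 1
    rw [hcomm (QuotientGroup.mk (⟨x, hx⟩ : P0))]
    group
  exact h7

end Cfsg.Agent.H70.Dl
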