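import Cfsg.Agent.H70.Dl.McLTwo
import Cfsg.Agent.H70.Dl.Tools
import Cfsg.Agent.H755.Dl.Lin
import Cfsg.Agent.H990.CC.HSMcL

/-!
# S4769: the row of `McL` (helper70)

`p = 3`: `PSU₄(3)` has index 275, and a Sylow 3-subgroup of `SL₄(9)` has derived length at most 2.
-/

set_option autoImplicit false

open Cfsg

namespace Cfsg.Agent.H70.Dl.McL

open Cfsg.Agent.H246.Dl Cfsg.Agent.H596.OneFacts Cfsg.Agent.H651.Two Cfsg.Agent.H759.Dl Cfsg.Agent.H680.Dl
open Cfsg.Agent.H70.Dl Subgroup
open Cfsg.Agent.H990.CCHS (pair hV exists_field9 card_psu9)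
open Cfsg.Agent.H792.SpU35 (card_McL)

universe u

theorem dlLe_psu {F : Type} [Field F] [Fintype F] (hF : Fintype.card F = 9) : DlLe 3 2 (PSU 4 F 3) := by
  have h3 : Fact (Nat.Prime 3) := ⟨Nat.prime_three⟩
  have : CharP F 3 := by
    obtain ⟨q, hq⟩ := CharP.exists F
    have hpf : Fact q.Prime := ⟨CharP.char_is_prime F q⟩
    obtain ⟨n, hn, hc⟩ := FiniteField.card F q
    rw [hF] at hc
    have h1 : q ∣ 3 ^ 2 := by
      rw [show (3 : ℕ) ^ 2 = q ^ (n : ℕ) from hc]
      exact dvd_pow_self q n.pos.ne'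
    have h2 := (Nat.prime_dvd_prime_iff_eq hn Nat.prime_three).1 (hn.dvd_of_dvd_pow h1)
    rwa [h2] at hq
  have h1 := Cfsg.Agent.H755.Dl.DlLe_charp (p := 3) (F := F) (n := 4) (G := SU 4 F 3) (S := PSU 4 F 3)
    (f := QuotientGroup.mk' _) (ρ := Matrix.SpecialLinearGroup.toGL.comp (SU 4 F 3).subtype)
    (QuotientGroup.mk'_surjective _) (by
      rw [MonoidHom.coe_comp]
      refine Function.Injective.comp ?_ (SU 4 F 3).subtype_injective
      intro a b hab
      exact Subtype.ext (congrArg (fun x : GL (Fin 4) F => (x : Matrix (Fin 4) (Fin 4) F)) hab))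
  exact h1

theorem dlLe_three_mcl {K : Type u} [Group K] [Finite K] (h : Spor.IsoMcL K) : DlLe 3 2 K := by
  have h3 : Fact (Nat.Prime 3) := ⟨Nat.prime_three⟩
  obtain ⟨F, _, _, hF⟩ := exists_field9
  have hn := (Cfsg.Agent.S1580.result Spor.leechV (-Spor.leechU) hV pair).1
  obtain ⟨x, hx⟩ := Set.nonempty_of_ncard_ne_zero (by rw [hn]; norm_num)
  obtain ⟨e⟩ := Cfsg.Agent.S1582.result Spor.leechV (-Spor.leechU) x hV pair hx F hF
  obtain ⟨e2⟩ := h
  set W := MulAction.stabilizer Co0 Spor.leechV ⊓ MulAction.stabilizer Co0 (-Spor.leechU) ⊓ MulAction.stabilizer Co0 x with hW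
  have hmem : ∀ g : W, ((g : Co0) : Equiv.Perm leechLattice) ∈ Spor.McL := by
    intro g
    have h1 : (g : Co0) • Spor.leechV = Spor.leechV := g.2.1.1
    have h2 : (g : Co0) • (-Spor.leechU) = -Spor.leechU := g.2.1.2
    rw [Cfsg.Agent.SporadicStructure.Co0Base.co0_smul_neg, neg_inj] at h2
    exact ⟨⟨(g : Co0).2, h1⟩, h2⟩
  let f : W →* Spor.McL := (Co0.subtype.comp W.subtype).codRestrict Spor.McL hmem
  have hf : Function.Injective f := by
    intro a b h
    have h1 := congrArg Subtype.val h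
    exact Subtype.ext (Subtype.ext h1)
  let g : PSU 4 F 3 →* K := (e2.symm.toMonoidHom.comp f).comp e.symm.toMonoidHom
  have hg : Function.Injective g := by
    rw [MonoidHom.coe_comp, MonoidHom.coe_comp]
    exact (e2.symm.injective.comp hf).comp e.symm.injective
  have hcard := card_psu9 hF
  have hcr : Nat.card g.range = 3265920 := by
    rw [← hcard]
    exact (Nat.card_congr (MonoidHom.ofInjective hg).toEquiv).symm
  have hcK : Nat.card K = 898128000 := by rw [Nat.card_congr e2.toEquiv, card_McL]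
  have hidx : g.range.index = 275 := by
    have h1 := g.range.card_mul_index
    rw [hcr, hcK] at h1
    omega
  refine DlLe.of_index (p := 3) (H := g.range) (by rw [hidx]; norm_num) ?_
  exact DlLe.of_equiv (MonoidHom.ofInjective hg).symm (dlLe_psu hF)

/-- **`McL`** -/
theorem row_mcl (T : FactTwo.{u}) (I : H671.H5.FactIM.{u}) : RowF.{u} (fun S => Spor.IsoMcL S) := by
  intro S _ _ _ h p hp hd
  have hcard : Nat.card S = 898128000 := by
    obtain ⟨e⟩ := h
    rw [Nat.card_congr e.toEquiv, card_McL]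
  by_cases hp2 : p = 2
  · subst hp2
    have h2 : Fact (Nat.Prime 2) := ⟨Nat.prime_two⟩
    exact ⟨3, dlLe_three (p := 2) (a := 7) (by norm_num) (by rw [hcard]; norm_num), McLTwo.many_mcl h⟩
  by_cases hp3 : p = 3
  · subst hp3
    exact row_of_dl_two T I (not_comm (by rw [hcard]; norm_num)) hp hd (dlLe_three_mcl h)
  refine row_of_arith T I hcard (by norm_num) hp hd fun h6 => ?_
  have h7 : p ^ 6 ≤ 898128000 := Nat.le_of_dvd (by norm_num) h6
  have h8 : p ≤ 32 := by
    by_contra hcon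
    have : 33 ^ 6 ≤ p ^ 6 := Nat.pow_le_pow_left (by omega) 6
    omega
  have h2 := hp.two_le
  interval_cases p <;> first | exact absurd rfl hp2 | exact absurd rfl hp3 | (revert h6; norm_num; done) | (revert hp; norm_num)

end Cfsg.Agent.H70.Dl.McL
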