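import Cfsg.Agent.H70.Dl.Block
import Cfsg.Agent.H70.Dl.SuzDl
import Cfsg.Agent.H299.Two.Suz
import Cfsg.Agent.H454.Dl.Crit
import Cfsg.Agent.CpAutSuz.ThreeC

/-!
# S4769: the row of `Suz` (helper70)

`p = 2`: a non-principal block with defect group of order at most 8 (the elements of odd prime order `y` of `C(V)`,
`V` a four group of class 2B, have `16 ∤ |C(y)|`) and the degree 780.
-/

set_option autoImplicit false

open Cfsg

namespace Cfsg.Agent.H70.Dl.Suz

open Cfsg.Agent.H246.Dl Cfsg.Agent.H596.OneFacts Cfsg.Agent.H651.Two Cfsg.Agent.H759.Dl Cfsg.Agent.H680.Dl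
open Cfsg.Agent.H70.Dl Subgroup
open Cfsg.Agent.KFacts.SuzLFour Cfsg.Agent.KFacts.SuzTwoB Cfsg.Agent.H299.Two.Suz
open Cfsg.Spor (Suz)

universe u

/-- elements of odd prime order of `C(V)` -/
theorem not_dvd {y : Suz} (hy : y ∈ centralizer ((V : Subgroup Suz) : Set Suz)) (hp : (orderOf y).Prime)
    (h2 : orderOf y ≠ 2) : ¬ 2 ^ (3 + 1) ∣ Nat.card (centralizer ({y} : Set Suz)) := by
  have he0 : e0 ∈ V := mem_V.2 (Or.inr (Or.inl rfl))
  have hc : y * e0 = e0 * y := ((mem_centralizer_iff.1 hy) e0 he0).symm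
  have hL : y ∈ L := H812.SuzLoc.mem_L_of_odd (mem_CE.2 hc) (hp.odd_of_ne_two h2) (pow_orderOf_eq_one y)
  have hd : orderOf y ∣ 20160 := by
    have := H812.SuzLoc.finL
    rw [← card_L]
    have h1 := orderOf_dvd_natCard (⟨y, hL⟩ : ↥L)
    rwa [← Subgroup.orderOf_coe] at h1
  have h3 : orderOf y = 3 ∨ orderOf y = 5 ∨ orderOf y = 7 := by
    have h4 : orderOf y ∈ (20160 : ℕ).primeFactors := Nat.mem_primeFactors.2 ⟨hp, hd, by norm_num⟩
    rw [show (20160 : ℕ).primeFactors = {2, 3, 5, 7} by decide +kernel] at h4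
    simp only [Finset.mem_insert, Finset.mem_singleton] at h4
    rcases h4 with h4 | h4 | h4 | h4
    · exact absurd h4 h2
    · exact Or.inl h4
    · exact Or.inr (Or.inl h4)
    · exact Or.inr (Or.inr h4)
  intro h
  rcases h3 with h3 | h3 | h3
  · rw [CpAutSuz.ThreeC.card_of_comm h3 hc] at h
    norm_num at h
  · rcases H812.SuzLoc.card_cases hL (Or.inr rfl) h3 with h4 | h4 | h4 <;> rw [h4] at h <;> norm_num at h
  · rcases H812.SuzLoc.card_cases hL (Or.inl rfl) h3 with h4 | h4 | h4 <;> rw [h4] at h <;> norm_num at h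

theorem nd : 3 ≤ ND (2 ^ 10) Suz := by
  have hp2 : Fact (Nat.Prime 2) := ⟨Nat.prime_two⟩
  have hV : IsPGroup 2 V := IsPGroup.of_card (n := 2) (by rw [card_V]; norm_num)
  obtain ⟨e⟩ := equiv_cent
  let K := Cfsg.Agent.CTwoTab.SuzPlane.PSL3
  let f : centralizer ((V : Subgroup Suz) : Set Suz) →* K :=
    (Cfsg.Agent.CTwoTab.SuzPlane.equiv.toMonoidHom.comp (MonoidHom.snd ↥V ↥L)).comp e.toMonoidHom
  have hf : Function.Surjective f := by
    intro k
    refine ⟨e.symm (1, Cfsg.Agent.CTwoTab.SuzPlane.equiv.symm k), ?_⟩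
    show Cfsg.Agent.CTwoTab.SuzPlane.equiv (e (e.symm (1, Cfsg.Agent.CTwoTab.SuzPlane.equiv.symm k))).2 = k
    rw [e.apply_symm_apply]
    exact Cfsg.Agent.CTwoTab.SuzPlane.equiv.apply_symm_apply k
  have hcK : Nat.card K = 20160 := Cfsg.Agent.CTwoTab.SuzPlane.card_PSL3
  have hfK : Finite K := Nat.finite_of_card_ne_zero (by rw [hcK]; norm_num)
  have hchar : CharP Cfsg.Agent.SporadicA.FieldFour.F4 2 :=
    CharTwo.of_one_ne_zero_of_two_eq_zero one_ne_zero (by decide)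
  obtain ⟨χ, hχ, hχP⟩ := Cfsg.Agent.S2544.result (F := Cfsg.Agent.SporadicA.FieldFour.F4) 2 3 (by norm_num)
  obtain ⟨T⟩ : Nonempty (Sylow 2 K) := inferInstance
  obtain ⟨s, hsT, hs1, hsi⟩ := Cfsg.Agent.H299.Two.exists_center_sylow (p := 2) (K := K) (by rw [hcK]; norm_num) T
  let x : centralizer ((V : Subgroup Suz) : Set Suz) := e.symm (1, Cfsg.Agent.CTwoTab.SuzPlane.equiv.symm s)
  have hex : e x = (1, Cfsg.Agent.CTwoTab.SuzPlane.equiv.symm s) := e.apply_symm_apply _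
  have hfx : f x = s := by
    show Cfsg.Agent.CTwoTab.SuzPlane.equiv (e x).2 = s
    rw [hex]
    exact Cfsg.Agent.CTwoTab.SuzPlane.equiv.apply_symm_apply s
  refine Block.nd_of_hom (a := 10) (b := 3) hV (by rw [card_V]; norm_num) f hf hχ (x := x) ?_
    (by rw [hfx]; exact hsi) (by rw [hfx]; exact (hχP T).2 s hsT hs1) (by rw [card_Suz]; norm_num)
    (fun y hy h1 h2 => not_dvd hy h1 h2)
  intro y hy
  apply e.injective
  rw [map_mul, map_mul, hex]
  have h1 : (e y).2 * (e x).2 = (e x).2 * (e y).2 := by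
    apply Cfsg.Agent.CTwoTab.SuzPlane.equiv.injective
    rw [map_mul, map_mul]
    exact hy
  rw [hex] at h1
  exact Prod.ext (by simp) h1

theorem many_Suz : Many 2 Suz 3 := by
  have h2 : Fact (Nat.Prime 2) := ⟨Nat.prime_two⟩
  have h3 := nd
  obtain ⟨χ, h4, h5⟩ := many_of_nd (p := 2 ^ 10) (m := 2) (S := Suz) (by
    have : Nat.card (Out Suz) = 2 := Cfsg.Agent.S2074.result
    omega)
  obtain ⟨ψ, hψ⟩ := (Cfsg.Agent.H672.SporIM.suz (K := Suz) ⟨MulEquiv.refl _⟩).2
  refine H454.DlCrit.Many.cons_of_degree χ (fun i => (Dvd.intro_left (2 ^ 9) rfl).trans (h4 i)) h5 ψ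
    (by rw [hψ]; norm_num) (fun i h => ?_)
  have h6 := h4 i
  rw [← h, hψ] at h6
  norm_num at h6

theorem many_suz {S : Type u} [Group S] (h : Spor.IsoSuz S) : Many 2 S 3 := by
  obtain ⟨e⟩ := h
  exact Many.of_equiv e many_Suz

/-- **`Suz`** -/
theorem row_suz (T : FactTwo.{u}) (I : H671.H5.FactIM.{u}) : RowF.{u} (fun S => Spor.IsoSuz S) := by
  intro S _ _ _ h p hp hd
  have hcard : Nat.card S = 448345497600 := NotCT.Orders.suz h
  by_cases hp2 : p = 2
  · subst hp2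
    exact ⟨3, SuzDl.dlLe_suz h, many_suz h⟩
  by_cases hp3 : p = 3
  · subst hp3
    exact row_of_dl_two T I (not_comm (by rw [hcard]; norm_num)) hp hd (SuzDl.dlLe_suz_three h)
  refine row_of_arith T I hcard (by norm_num) hp hd fun h6 => ?_
  have h7 : p ^ 6 ≤ 448345497600 := Nat.le_of_dvd (by norm_num) h6
  have h8 : p ≤ 87 := by
    by_contra hcon
    have : 88 ^ 6 ≤ p ^ 6 := Nat.pow_le_pow_left (by omega) 6
    omega
  have h9 : p ∈ (448345497600 : ℕ).primeFactors :=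
    Nat.mem_primeFactors.2 ⟨hp, (dvd_pow_self p (by norm_num)).trans h6, by norm_num⟩
  rw [show (448345497600 : ℕ).primeFactors = {2, 3, 5, 7, 11, 13} by decide +kernel] at h9
  simp only [Finset.mem_insert, Finset.mem_singleton] at h9
  rcases h9 with rfl | rfl | rfl | rfl | rfl | rfl
  · exact hp2 rfl
  · exact hp3 rfl
  all_goals (revert h6; norm_num)

end Cfsg.Agent.H70.Dl.Suz
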