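import Cfsg.Agent.H759.Dl.Small
import Cfsg.Agent.H680.Dl.Hall
import Cfsg.Agent.H651.Two.Count

/-!
# Tools for the sporadic rows of S4769 (helper70)

* `many_of_nd` : `(m - 1) * |Out S| < ND p S` implies `Many p S m`;
* `many_three` : three different degrees;
* `row_small` : Sylow subgroups of order less than `p ^ 6`.
-/

set_option autoImplicit false

open Cfsg

namespace Cfsg.Agent.H70.Dl

open Cfsg.Agent.H246.Dl Cfsg.Agent.H596.OneFacts Cfsg.Agent.H651.Two Cfsg.Agent.H759.Dl Cfsg.Agent.H680.Dl

universe u

/-- `σ`-conjugate characters with the same class of `σ` in `Out S`. -/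
theorem eq_of_out {S : Type u} [Group S] {α β γ : IrrCharacter S} {σ τ : MulAut S}
    (h1 : ∀ s : S, (α : S → ℂ) (σ s) = (β : S → ℂ) s) (h2 : ∀ s : S, (α : S → ℂ) (τ s) = (γ : S → ℂ) s)
    (h : (QuotientGroup.mk σ : Out S) = QuotientGroup.mk τ) : β = γ := by
  have h3 : σ⁻¹ * τ ∈ Inn S := QuotientGroup.eq.1 h
  obtain ⟨g, hg⟩ := h3
  apply Subtype.ext
  funext s
  have h4 : τ = σ * MulAut.conj g := by rw [hg, mul_inv_cancel_left]
  have h5 := h2 s
  rw [h4, MulAut.mul_apply, MulAut.conj_apply, h1, inner_apply] at h5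
  exact h5

/-- One more character. -/
theorem exists_more {p : ℕ} {S : Type u} [Group S] [Finite S] {k : ℕ} (χ : Fin k → IrrCharacter S)
    (h : k * Nat.card (Out S) < ND p S) :
    ∃ β : IrrCharacter S, p ∣ charDegree (β : S → ℂ) ∧
      ∀ i, ∀ σ : S ≃* S, ∃ g, (χ i : S → ℂ) (σ g) ≠ (β : S → ℂ) g := by
  classical
  by_contra hcon
  push Not at hcon
  have hfin : Finite (IrrCharacter S) := Cfsg.Agent.Characters.Core.finite_irr
  have hfinO : Finite (Out S) := by
    have : Finite (MulAut S) := inferInstance
    infer_instance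
  choose i σ hσ using fun β : PD p S => hcon β.1 β.2
  have hinj : Function.Injective fun β : PD p S => ((i β, (QuotientGroup.mk (σ β) : Out S)) : Fin k × Out S) := by
    intro β γ hβγ
    simp only [Prod.mk.injEq] at hβγ
    apply Subtype.ext
    refine eq_of_out (hσ β) (τ := σ γ) ?_ hβγ.2
    rw [hβγ.1]
    exact hσ γ
  have h2 := Nat.card_le_card_of_injective _ hinj
  rw [Nat.card_prod, Nat.card_fin] at h2
  exact absurd h2 (not_le.2 h)

/-- **Counting.** -/
theorem many_of_nd {p m : ℕ} {S : Type u} [Group S] [Finite S] (h : (m - 1) * Nat.card (Out S) < ND p S) :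
    Many p S m := by
  have key : ∀ k ≤ m, Many p S k := by
    intro k
    induction k with
    | zero => exact fun _ => ⟨Fin.elim0, fun i => i.elim0, fun i => i.elim0⟩
    | succ k ih =>
      intro hk
      obtain ⟨χ, h1, h2⟩ := ih (by omega)
      obtain ⟨β, hβ, hβ'⟩ := exists_more (p := p) χ
        ((Nat.mul_le_mul_right _ (by omega : k ≤ m - 1)).trans_lt h)
      refine ⟨Fin.cons β χ, fun i => ?_, fun i j hij τ => ?_⟩
      · refine Fin.cases ?_ (fun i => ?_) i
        · exact hβ
        · exact h1 i
      · induction i using Fin.cases with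
        | zero =>
          induction j using Fin.cases with
          | zero => exact absurd rfl hij
          | succ j =>
            rw [Fin.cons_zero, Fin.cons_succ]
            obtain ⟨g, hg⟩ := hβ' j τ.symm
            refine ⟨τ.symm g, fun h3 => hg ?_⟩
            rw [τ.apply_symm_apply] at h3
            exact h3.symm
        | succ i =>
          induction j using Fin.cases with
          | zero =>
            rw [Fin.cons_zero, Fin.cons_succ]
            exact hβ' i τ
          | succ j =>
            rw [Fin.cons_succ, Fin.cons_succ]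
            exact h2 i j (fun h3 => hij (by rw [h3])) τ
  exact key m le_rfl

/-- Three different degrees. -/
theorem many_three {p : ℕ} {S : Type u} [Group S] {α β γ : IrrCharacter S}
    (ha : p ∣ charDegree (α : S → ℂ)) (hb : p ∣ charDegree (β : S → ℂ)) (hc : p ∣ charDegree (γ : S → ℂ))
    (hab : charDegree (α : S → ℂ) ≠ charDegree (β : S → ℂ)) (hac : charDegree (α : S → ℂ) ≠ charDegree (γ : S → ℂ))
    (hbc : charDegree (β : S → ℂ) ≠ charDegree (γ : S → ℂ)) : Many p S 3 := by
  refine Many.of_degrees ![α, β, γ] ?_ ?_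
  · intro i
    fin_cases i
    · exact ha
    · exact hb
    · exact hc
  · intro i j hij
    fin_cases i <;> fin_cases j <;> first | rfl | skip
    · exact absurd hij hab
    · exact absurd hij hac
    · exact absurd hij.symm hab
    · exact absurd hij hbc
    · exact absurd hij.symm hac
    · exact absurd hij.symm hbc

/-- Sylow subgroups of order less than `p ^ 6`. -/
theorem row_small (T : FactTwo.{u}) (I : H671.H5.FactIM.{u}) {p : ℕ} {S : Type u} [Group S] [Finite S]
    [IsSimpleGroup S] (hc : ¬ IsMulCommutative S) (hp : p.Prime) (hd : p ∣ Nat.card S)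
    (h : ¬ p ^ 6 ∣ Nat.card S) : Row p S := by
  have : Fact p.Prime := ⟨hp⟩
  exact row_of_dl_two T I hc hp hd (dlLe_two (a := 5) le_rfl h)

/-- A simple group whose order is not a prime is not commutative. -/
theorem not_comm {S : Type*} [Group S] [Finite S] [hs : IsSimpleGroup S] (h : ¬ (Nat.card S).Prime) :
    ¬ IsMulCommutative S := by
  intro hcm
  letI : CommGroup S := { (inferInstance : Group S) with mul_comm := hcm.is_comm.comm }
  exact h (IsSimpleGroup.prime_card (α := S))

/-- The row for the primes `p` with `p ^ 6 ∤ |S|`. -/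
theorem row_of_arith (T : FactTwo.{u}) (I : H671.H5.FactIM.{u}) {p : ℕ} {S : Type u} [Group S] [Finite S]
    [IsSimpleGroup S] {n : ℕ} (hn : Nat.card S = n) (hnp : ¬ n.Prime) (hp : p.Prime) (hd : p ∣ Nat.card S)
    (h : ¬ p ^ 6 ∣ n) : Row p S :=
  row_small T I (not_comm (by rw [hn]; exact hnp)) hp hd (by rw [hn]; exact h)

end Cfsg.Agent.H70.Dl
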