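import Cfsg.Agent.H70.Dl.Base
import Cfsg.Agent.H299.Two.Block
import Cfsg.Agent.SuzukiRankOne.M1Average

/-!
# Characters of degree divisible by a power of `p` from a non-principal block (helper70)

`B` a non-principal block with defect group `D`: `C(D)` contains an element of prime order `≠ p`
(`exists_commuting`: a `B`-pair `(D, e)`, `e` is not principal by the third main theorem). So if `C(Q)` has a
non-principal block and `p ^ (b + 1)` does not divide `|C(y)|` for the elements `y` of `C(Q)` of prime order `≠ p`, there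
are at least three characters of degree divisible by `p ^ a`, `p ^ (a + b) = |G|_p` (`nd_of_nonprincipal`).
-/

set_option autoImplicit false

open Cfsg

namespace Cfsg.Agent.H70.Dl.Block

open Cfsg.Agent.H651.Two Cfsg.Agent.H33 Subgroup
open Cfsg.Agent.Blocks.Basic Cfsg.Agent.Blocks.Local Cfsg.Agent.H299.Two

universe u

variable {G : Type u} [Group G] [Finite G] {p : ℕ} [hp : Fact p.Prime] {M : Ideal AlgInt}

/-- All blocks of a `p`-group are principal. -/
theorem eq_principal_of_pgroup (hM : IsPModular p M) {X : Type u} [Group X] [Finite X] (hX : IsPGroup p X)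
    {e : Set (IrrCharacter X)} (he : IsPBlock M e) : e = principalBlock M X := by
  have hMp : M.IsPrime := isPrime_of_isPModular hM
  have hs : IsPSolvable p X := by
    have hn := hX.isNilpotent
    have hs : Group.IsSolvable X := inferInstance
    exact Lib.PSolvable.IsPSolvable_of_solvable p
  have hbot : pPrimeCore p X = ⊥ := by
    have h1 := Lib.Cores.pPrimeCore_coprime (G := X) p
    obtain ⟨n, hn⟩ := IsPGroup.iff_card.1 (hX.to_subgroup (pPrimeCore p X))
    rw [hn] at h1
    rcases Nat.eq_zero_or_pos n with h0 | h0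
    · rw [h0, pow_zero] at hn
      exact Subgroup.eq_bot_of_card_eq _ hn
    · exfalso
      rw [Nat.coprime_pow_left_iff h0] at h1
      exact absurd ((Nat.coprime_self p).1 h1) hp.out.one_lt.ne'
  have h2 := SuzukiRankOne.M1Average.principalBlock_eq hM hs
  obtain ⟨χ, hχ⟩ := isPBlock_nonempty he
  refine isPBlock_eq_of_mem he ⟨⟨fun _ => 1, one_irr X⟩, rfl⟩ hχ ?_
  show χ ∈ principalBlock M X
  rw [h2]
  intro n hn
  rw [hbot, Subgroup.mem_bot] at hn
  rw [hn]

/-- **The centralizer of a defect group of a non-principal block is not a `p`-group.** -/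
theorem exists_commuting (hM : IsPModular p M) {B : Set (IrrCharacter G)} (hB : IsPBlock M B)
    (hne : B ≠ principalBlock M G) {D : Subgroup G} (hD : IsDefectGroup p M B D) :
    ∃ y ∈ centralizer (D : Set G), (orderOf y).Prime ∧ orderOf y ≠ p := by
  classical
  have := Fintype.ofFinite G
  have hMp := isPrime_of_isPModular hM
  by_contra hcon
  push Not at hcon
  have hpg : IsPGroup p (centralizer (D : Set G)) := by
    have hpos : 0 < Nat.card (centralizer (D : Set G)) := Nat.card_pos
    refine IsPGroup.of_card (n := (Nat.card (centralizer (D : Set G))).primeFactorsList.length)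
      (Nat.eq_prime_pow_of_unique_prime_dvd hpos.ne' ?_)
    intro q hq hqd
    have : Fact q.Prime := ⟨hq⟩
    obtain ⟨x, hx⟩ := exists_prime_orderOf_dvd_card' (G := centralizer (D : Set G)) q hqd
    have hx' : orderOf (x : G) = q := by rw [Subgroup.orderOf_coe, hx]
    have h1 := hcon x x.2 (by rw [hx']; exact hq)
    rw [← hx', h1]
  obtain ⟨e, he⟩ := H644.exists_pair_of_le_isDefectGroup hM hB hD le_rfl
  have he1 : e = principalBlock M (centralizer (D : Set G)) := eq_principal_of_pgroup hM hpg he.1.2
  have h1 := (S4663.result p M hM D (isPGroup_of_isDefectGroup hD) e he.1.2).2 he1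
  exact hne ((H644.existsUnique_isBrauerPairOf hM he.1).unique he h1)

/-- **Three characters of degree divisible by `p ^ a`.** -/
theorem nd_of_nonprincipal {Q : Subgroup G} (hQ : IsPGroup p Q) (h3 : 3 ≤ Nat.card Q)
    (h : ∀ M : Ideal AlgInt, IsPModular p M →
      ∃ e : Set (IrrCharacter (centralizer (Q : Set G))), IsPBlock M e ∧
        e ≠ principalBlock M (centralizer (Q : Set G))) {a b : ℕ} (hab : p ^ (a + b) ∣ Nat.card G)
    (hb : ∀ y ∈ centralizer (Q : Set G), (orderOf y).Prime → orderOf y ≠ p →
      ¬ p ^ (b + 1) ∣ Nat.card (centralizer ({y} : Set G))) : 3 ≤ ND (p ^ a) G := by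
  classical
  have := Fintype.ofFinite G
  obtain ⟨M, hM⟩ := Cfsg.Agent.Blocks.Knorr.exists_isPModular p
  have hMp := isPrime_of_isPModular hM
  obtain ⟨e, he, hne⟩ := h M hM
  obtain ⟨B, hB, -⟩ := H644.existsUnique_isBrauerPairOf hM (P := Q) (e := e) ⟨hQ, he⟩
  have hBne : B ≠ principalBlock M G := by
    rintro rfl
    exact hne ((S4663.result p M hM Q hQ e he).1 hB)
  obtain ⟨D, hD, hQD⟩ := H644.exists_isDefectGroup_of_pair hM hB
  obtain ⟨y, hy, hy1, hy2⟩ := exists_commuting hM hB.2.1 hBne hD
  have hyQ : y ∈ centralizer (Q : Set G) := centralizer_le hQD hy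
  have hDy : D ≤ centralizer ({y} : Set G) := by
    intro d hd
    rw [mem_centralizer_singleton_iff]
    exact mem_centralizer_iff.1 hy d hd
  obtain ⟨n, hn⟩ := IsPGroup.iff_card.1 (isPGroup_of_isDefectGroup hD)
  have hnb : n ≤ b := by
    by_contra hcon
    push Not at hcon
    refine hb y hyQ hy1 hy2 ?_
    refine (Nat.pow_dvd_pow p (show b + 1 ≤ n from hcon)).trans ?_
    rw [← hn]
    exact card_dvd_of_le hDy
  have hfin : Finite (IrrCharacter G) := Cfsg.Agent.Characters.Core.finite_irr
  refine (three_le_card_block hM hB.2.1 hD (h3.trans (card_le_of_le hQD))).trans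
    (Nat.card_mono (Set.toFinite _) ?_)
  intro χ hχ
  have h1 := Cfsg.Agent.H592.Defect.le_degree_add p hM hB.2.1 hD hχ
  rw [hn, hp.out.factorization_pow, Finsupp.single_eq_same] at h1
  have h2 := (hp.out.pow_dvd_iff_le_factorization Nat.card_pos.ne').1 hab
  exact (hp.out.pow_dvd_iff_le_factorization (charDegree_pos χ.2).ne').2 (by omega)

/-- The same with a character of a quotient of `C(Q)` vanishing on a class of order prime to `p`. -/
theorem nd_of_hom {Q : Subgroup G} (hQ : IsPGroup p Q) (h3 : 3 ≤ Nat.card Q) {K : Type*} [Group K] [Finite K]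
    (f : centralizer (Q : Set G) →* K) (hf : Function.Surjective f) {χ : K → ℂ} (hχ : IsIrrCharacter K χ)
    {x : centralizer (Q : Set G)} (hx : ∀ y, f y * f x = f x * f y → y * x = x * y)
    (hi : ¬ p ∣ (centralizer ({f x} : Set K)).index) (h0 : χ (f x) = 0) {a b : ℕ} (hab : p ^ (a + b) ∣ Nat.card G)
    (hb : ∀ y ∈ centralizer (Q : Set G), (orderOf y).Prime → orderOf y ≠ p →
      ¬ p ^ (b + 1) ∣ Nat.card (centralizer ({y} : Set G))) : 3 ≤ ND (p ^ a) G := by
  refine nd_of_nonprincipal hQ h3 (fun M hM => ?_) hab hb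
  refine ⟨_, ⟨⟨χ ∘ f, Cfsg.Agent.Characters.Core.isIrr_comp f hf hχ⟩, rfl⟩, ne_principal hM _ (x := x) ?_ h0⟩
  have h1 : centralizer ({x} : Set (centralizer (Q : Set G))) = (centralizer ({f x} : Set K)).comap f := by
    ext y
    rw [mem_comap, mem_centralizer_singleton_iff, mem_centralizer_singleton_iff]
    constructor
    · intro h
      rw [← map_mul, h, map_mul]
    · exact hx y
  rw [h1, index_comap_of_surjective _ hf]
  exact hi

end Cfsg.Agent.H70.Dl.Block
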