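import Cfsg.Agent.H70.Dl.Base
import Cfsg.Agent.H724.IMTool
import Cfsg.Agent.H593.IMRank
import Cfsg.Agent.H55.OutGen

/-!
# Counting classes by the orders of the elements (helper70)
-/

set_option autoImplicit false

open Cfsg

namespace Cfsg.Agent.H70.Dl

open Cfsg.Agent.H246.Dl Cfsg.Agent.H596.OneFacts Cfsg.Agent.H651.Two Cfsg.Agent.H759.Dl Cfsg.Agent.H680.Dl
open Cfsg.Agent.H713.Count

universe u

/-- `m` classes of elements of order `n` -/
def Cls (G : Type*) [Group G] (n m : ℕ) : Prop :=
  ∃ f : Fin m → G, (∀ i, orderOf (f i) = n) ∧ ∀ i j, IsConj (f i) (f j) → i = j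

variable {G : Type*} [Group G]

theorem orderOf_eq_of_isConj {a b : G} (h : IsConj a b) : orderOf a = orderOf b := by
  obtain ⟨c, hc⟩ := isConj_iff.1 h
  have h2 : orderOf (c * a * c⁻¹) = orderOf a := by
    have := orderOf_injective (MulAut.conj c).toMonoidHom (MulAut.conj c).injective a
    simpa using this
  rw [← h2, hc]

theorem Cls.one {n : ℕ} {g : G} (h : orderOf g = n) : Cls G n 1 :=
  ⟨fun _ => g, fun _ => h, fun _ _ _ => Subsingleton.elim _ _⟩

theorem Cls.two {n : ℕ} {a b : G} (ha : orderOf a = n) (hb : orderOf b = n) (h : ¬ IsConj a b) : Cls G n 2 := by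
  refine ⟨![a, b], ?_, ?_⟩
  · intro i
    fin_cases i
    · exact ha
    · exact hb
  · intro i j hij
    fin_cases i <;> fin_cases j
    · rfl
    · exact absurd hij h
    · exact absurd hij.symm h
    · rfl

theorem Cls.three {n : ℕ} {a b c : G} (ha : orderOf a = n) (hb : orderOf b = n) (hc : orderOf c = n)
    (h1 : ¬ IsConj a b) (h2 : ¬ IsConj a c) (h3 : ¬ IsConj b c) : Cls G n 3 := by
  refine ⟨![a, b, c], ?_, ?_⟩
  · intro i
    fin_cases i
    · exact ha
    · exact hb
    · exact hc
  · intro i j hij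
    fin_cases i <;> fin_cases j <;> first | rfl | skip
    · exact absurd hij h1
    · exact absurd hij h2
    · exact absurd hij.symm h1
    · exact absurd hij h3
    · exact absurd hij.symm h2
    · exact absurd hij.symm h3

/-- An invariant separates the classes. -/
theorem Cls.of_inv {n m : ℕ} {β : Type*} (f : Fin m → G) (hf : ∀ i, orderOf (f i) = n) (v : G → β)
    (hv : ∀ a b, IsConj a b → v a = v b) (hi : Function.Injective fun i => v (f i)) : Cls G n m :=
  ⟨f, hf, fun _ _ h => hi (hv _ _ h)⟩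

/-- Two classes of elements of prime order from the fusion of the powers. -/
theorem Cls.of_fus {p : ℕ} [hp : Fact p.Prime] {x : G} (hx : orderOf x = p)
    (h : (fus (p := p) x).card < p - 1) : Cls G p 2 := by
  classical
  have h1 : ∃ m : ZMod p, m ≠ 0 ∧ m ∉ fus (p := p) x := by
    by_contra hcon
    push Not at hcon
    have h2 : (Finset.univ.erase (0 : ZMod p)) ⊆ fus (p := p) x := by
      intro m hm
      exact hcon m (Finset.ne_of_mem_erase hm)
    have h3 := Finset.card_le_card h2
    rw [Finset.card_erase_of_mem (Finset.mem_univ _), Finset.card_univ, ZMod.card] at h3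
    omega
  obtain ⟨m, hm, hm'⟩ := h1
  have h2 : ¬ IsConj x (x ^ m.val) := fun h3 => hm' (mem_fus.2 ⟨hm, h3⟩)
  refine Cls.two hx ?_ h2
  have h3 : m.val ≠ 0 := fun h4 => hm ((ZMod.val_eq_zero m).1 h4)
  have h4 : Nat.Coprime (orderOf x) m.val := by
    rw [hx]
    refine (Nat.Prime.coprime_iff_not_dvd hp.out).2 fun h5 => ?_
    have := Nat.le_of_dvd (Nat.pos_of_ne_zero h3) h5
    exact absurd (ZMod.val_lt m) (not_lt.2 this)
  rw [h4.orderOf_pow, hx]

/-- **Lower bound for the number of classes.** -/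
theorem sum_le_classes [Finite G] (S : Finset ℕ) (w : ℕ → ℕ) (h : ∀ n ∈ S, Cls G n (w n)) :
    ∑ n ∈ S, w n ≤ Nat.card (ConjClasses G) := by
  classical
  choose! f hf hf' using h
  have h1 := Cfsg.Agent.H593.IMRank.card_le_conjClasses (G := G) (ι := (n : S) × Fin (w n))
    (fun i => f i.1 i.2) (fun i j hij => by
      obtain ⟨⟨n, hn⟩, i⟩ := i
      obtain ⟨⟨m, hm⟩, j⟩ := j
      have h2 : n = m := by
        rw [← hf n hn i, ← hf m hm j]
        exact orderOf_eq_of_isConj hij
      subst h2
      have h3 := hf' n hn i j hij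
      rw [h3])
  rw [Fintype.card_sigma] at h1
  simp only [Fintype.card_fin] at h1
  rwa [Finset.sum_coe_sort S w] at h1

theorem out_le_two {K : Type*} [Group K] {T : Type*} [Group T] (h : Nonempty (K ≃* T)) {n : ℕ}
    (hn : Nat.card (Out T) = n) (h2 : n ≤ 2) : Nat.card (Out K) ≤ 2 := by
  obtain ⟨e⟩ := h
  rw [H55.OutGen.card_out_congr e, hn]
  exact h2

/-- **Many even characters** from the number of classes and a 2-element with a small centralizer. -/
theorem many_of_classes {S : Type u} [Group S] [Finite S] {p : ℕ} [Fact p.Prime] {m n : ℕ} {x : S}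
    (hx : ∃ j : ℕ, orderOf x = p ^ j) (hC : Nat.card (Subgroup.centralizer ({x} : Set S)) = p ^ n)
    (ho : Nat.card (Out S) ≤ 2) (h : (m - 1) * 2 + p ^ n < Nat.card (ConjClasses S)) : Many p S m := by
  refine many_of_nd ?_
  have h1 := classes_le_pgroup hx (IsPGroup.iff_card.2 ⟨n, hC⟩)
  rw [hC] at h1
  have h2 : (m - 1) * Nat.card (Out S) ≤ (m - 1) * 2 := Nat.mul_le_mul_left _ ho
  omega

end Cfsg.Agent.H70.Dl
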