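import Cfsg.Agent.H70.Dl.Base
import Cfsg.Agent.H852.IMMcL

/-!
# S4769: `McL`, `p = 2` (helper70)

Degrees 22, 252 and an even degree from Frame's theorem for the rank four action on 2025 points.
-/

set_option autoImplicit false

open Cfsg

namespace Cfsg.Agent.H70.Dl.McLTwo

open Cfsg.Agent.H246.Dl Cfsg.Agent.H70.Dl
open Cfsg.Agent.Leech.Basic Cfsg.Agent.Leech.Co0Elts
open MulAction Cfsg.Agent.H33 Cfsg.Agent.H593.IMFrame Cfsg.Agent.H713.Spor Cfsg.Agent.SporadicRecognition.HSRank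
  Cfsg.Agent.SporadicRecognition.TwoEmb Cfsg.Agent.SporadicRecognition.HSParam
  Cfsg.Agent.SporadicRecognition.McLAssemble Cfsg.Agent.SporadicRecognition.RankThreeOf
open Cfsg.Agent.H852.IMMcL

/-- the product of the subdegrees and of the powers of the degree -/
def PP : ℕ := 2025 ^ 4 * (330 * 462 * 1232)

/-- `x, y, 2024 - x - y` -/
def test (x y : ℕ) : Bool :=
  (898128000 % y != 0) || (898128000 % (2024 - x - y) != 0) ||
    (x % 2 == 0 && x != 22 && x != 252) || (y % 2 == 0 && y != 22 && y != 252) ||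
    ((2024 - x - y) % 2 == 0 && (2024 - x - y) != 22 && (2024 - x - y) != 252) ||
    (PP % (x * y * (2024 - x - y)) != 0) ||
    ((x * y * (2024 - x - y) == 3260950) && (x != y) && (x != 2024 - x - y) && (y != 2024 - x - y) && (x != 1) &&
      (y != 1) && (2024 - x - y != 1))

/-- the divisors of the order less than 2024 -/
def divs : List ℕ := [1, 2, 3, 4, 5, 6, 7, 8, 9, 10, 11, 12, 14, 15, 16, 18, 20, 21, 22, 24, 25, 27, 28, 30, 32, 33, 35, 36, 40, 42, 44, 45, 48, 50, 54, 55, 56, 60, 63, 64, 66, 70, 72, 75, 77, 80, 81, 84, 88, 90, 96, 99, 100, 105, 108, 110, 112, 120, 125, 126, 128, 132, 135, 140, 144, 150, 154, 160, 162, 165, 168, 175, 176, 180, 189, 192, 198, 200, 210, 216, 220, 224, 225, 231, 240, 243, 250, 252, 264, 270, 275, 280, 288, 297, 300, 308, 315, 320, 324, 330, 336, 350, 352, 360, 375, 378, 384, 385, 396, 400, 405, 420, 432, 440, 448, 450, 462, 480, 486, 495, 500, 504, 525, 528, 540, 550, 560, 567, 576, 594, 600, 616,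 630, 640, 648, 660, 672, 675, 693, 700, 704, 720, 729, 750, 756, 770, 792, 800, 810, 825, 840, 864, 875, 880, 891, 896, 900, 924, 945, 960, 972, 990, 1000, 1008, 1050, 1056, 1080, 1100, 1120, 1125, 1134, 1152, 1155, 1188, 1200, 1215, 1232, 1260, 1296, 1320, 1344, 1350, 1375, 1386, 1400, 1408, 1440, 1458, 1485, 1500, 1512, 1540, 1575, 1584, 1600, 1620, 1650, 1680, 1701, 1728, 1750, 1760, 1782, 1800, 1848, 1890, 1920, 1925, 1944, 1980, 2000, 2016]

theorem mem_divs_true : (List.range 2024).all (fun x => Bool.or (Nat.blt 0 (898128000 % x)) (divs.elem x) || x == 0) = true := by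
  decide +kernel

theorem mem_divs {x : ℕ} (h : x < 2024) (h0 : x ≠ 0) (hd : x ∣ 898128000) : x ∈ divs := by
  have h1 := List.all_eq_true.1 mem_divs_true x (List.mem_range.2 h)
  rw [Nat.dvd_iff_mod_eq_zero.1 hd, Bool.or_eq_true, Bool.or_eq_true] at h1
  rcases h1 with (h1 | h1) | h1
  · exact absurd h1 (by decide)
  · exact List.mem_of_elem_eq_true h1
  · exact absurd (beq_iff_eq.1 h1) h0

def testAll : Bool := divs.all fun x => divs.all fun y => test x y

theorem testAll_true : testAll = true := by decide +kernel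

theorem search {x y z : ℕ} (hs : x + y + z = 2024) (hx : x ∣ 898128000) (hy : y ∣ 898128000) (hz : z ∣ 898128000)
    (hp : x * y * z ∣ PP) (ex : x % 2 = 0 → x = 22 ∨ x = 252) (ey : y % 2 = 0 → y = 22 ∨ y = 252)
    (ez : z % 2 = 0 → z = 22 ∨ z = 252) :
    x * y * z = 3260950 ∧ x ≠ y ∧ x ≠ z ∧ y ≠ z ∧ x ≠ 1 ∧ y ≠ 1 ∧ z ≠ 1 := by
  have hx0 : x ≠ 0 := by rintro rfl; norm_num at hx
  have hy0 : y ≠ 0 := by rintro rfl; norm_num at hy
  have hz0 : z ≠ 0 := by rintro rfl; norm_num at hz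
  have hz' : z = 2024 - x - y := by omega
  have h := testAll_true
  rw [testAll, List.all_eq_true] at h
  have h1 := h x (mem_divs (by omega) hx0 hx)
  rw [List.all_eq_true] at h1
  have h2 := h1 y (mem_divs (by omega) hy0 hy)
  rw [test, ← hz'] at h2
  simp only [Bool.or_eq_true, Bool.and_eq_true, bne_iff_ne, beq_iff_eq, ne_eq] at h2
  rcases h2 with (((((h2 | h2) | h2) | h2) | h2) | h2) | h2
  · exact absurd (Nat.dvd_iff_mod_eq_zero.1 hy) h2
  · exact absurd (Nat.dvd_iff_mod_eq_zero.1 hz) h2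
  · rcases ex h2.1.1 with h3 | h3
    · exact absurd h3 h2.1.2
    · exact absurd h3 h2.2
  · rcases ey h2.1.1 with h3 | h3
    · exact absurd h3 h2.1.2
    · exact absurd h3 h2.2
  · rcases ez h2.1.1 with h3 | h3
    · exact absurd h3 h2.1.2
    · exact absurd h3 h2.2
  · exact absurd (Nat.dvd_iff_mod_eq_zero.1 hp) h2
  · obtain ⟨⟨⟨⟨⟨⟨c1, c2⟩, c3⟩, c4⟩, c5⟩, c6⟩, c7⟩ := h2
    exact ⟨c1, c2, c3, c4, c5, c6, c7⟩

theorem not_square {D : ℕ} (h : 3260950 * D = PP) : ¬ IsSquare D := by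
  rintro ⟨c, rfl⟩
  have h1 : c * c = 968551222500000 := by
    have h2 : 3260950 * (c * c) = 3260950 * 968551222500000 := h.trans (by unfold PP; norm_num)
    exact Nat.eq_of_mul_eq_mul_left (by norm_num) h2
  rcases Nat.lt_or_ge c 31121556 with h2 | h2
  · have : c * c ≤ 31121555 * 31121555 := Nat.mul_le_mul (by omega) (by omega)
    omega
  · have : 31121556 * 31121556 ≤ c * c := Nat.mul_le_mul h2 h2
    omega

theorem exists_four : ∀ i0 : Fin 4, ∃ i j l, i0 ≠ i ∧ i0 ≠ j ∧ i0 ≠ l ∧ i ≠ j ∧ i ≠ l ∧ j ≠ l := by decide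

/-- An even degree different from 22 and 252. -/
theorem exists_even {f : Fin 4 → ℕ} (h1 : ∀ i, f i ∣ 898128000) {i0 : Fin 4} (h0 : f i0 = 1)
    (hs : ∑ i, f i = 2025) {D : ℕ} (hp : (∏ i, f i) * D = PP) (hD : Function.Injective f → IsSquare D) :
    ∃ i, f i % 2 = 0 ∧ f i ≠ 22 ∧ f i ≠ 252 := by
  by_contra hcon
  push Not at hcon
  have hev : ∀ i, f i % 2 = 0 → f i = 22 ∨ f i = 252 := by
    intro i hi
    by_cases h22 : f i = 22
    · exact Or.inl h22
    · exact Or.inr (hcon i hi h22)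
  obtain ⟨i, j, l, a1, a2, a3, a4, a5, a6⟩ := exists_four i0
  have hu := univ_four i0 i j l a1 a2 a3 a4 a5 a6
  have hsum : f i0 + (f i + (f j + f l)) = 2025 := by
    rw [← hs, hu, Finset.sum_insert (by simp [a1, a2, a3]), Finset.sum_insert (by simp [a4, a5]), Finset.sum_pair a6]
  have hprod : ∏ i, f i = f i * f j * f l := by
    rw [hu, Finset.prod_insert (by simp [a1, a2, a3]), Finset.prod_insert (by simp [a4, a5]), Finset.prod_pair a6, h0]
    ring
  rw [hprod] at hp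
  obtain ⟨b0, b1, b2, b3, b4, b5, b6⟩ := search (by omega) (h1 i) (h1 j) (h1 l) (Dvd.intro _ hp) (hev i) (hev j) (hev l)
  rw [b0] at hp
  refine not_square hp (hD ?_)
  have hmem : ∀ m : Fin 4, m = i0 ∨ m = i ∨ m = j ∨ m = l := by
    intro m
    have := Finset.mem_univ m
    rw [hu] at this
    simpa using this
  intro m n hmn
  rcases hmem m with rfl | rfl | rfl | rfl <;> rcases hmem n with rfl | rfl | rfl | rfl <;>
    first | rfl | (exfalso; omega)

theorem exists_deg_of_eq {A B : Subgroup ↥Co0} (h : A = B) {d : ℕ}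
    (hA : ∃ χ : IrrCharacter A, charDegree (χ : A → ℂ) = d) : ∃ χ : IrrCharacter B, charDegree (χ : B → ℂ) = d := by
  subst h
  exact hA

theorem hK : K (-Spor.leechV) Spor.leechU = K Spor.leechU (-(Spor.leechV + Spor.leechU)) := by
  rw [← k_neg, k_eq']

theorem even_model : ∃ χ : IrrCharacter ↥(K Spor.leechU (-(Spor.leechV + Spor.leechU))),
    charDegree (χ : ↥(K Spor.leechU (-(Spor.leechV + Spor.leechU))) → ℂ) % 2 = 0 ∧
    charDegree (χ : ↥(K Spor.leechU (-(Spor.leechV + Spor.leechU))) → ℂ) ≠ 22 ∧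
    charDegree (χ : ↥(K Spor.leechU (-(Spor.leechV + Spor.leechU))) → ℂ) ≠ 252 := by
  classical
  obtain ⟨hs, hG⟩ := facts'
  set v := Spor.leechU with hv
  set w := -(Spor.leechV + Spor.leechU) with hw
  let _ := act (K v w) (Pts v w) (pts_inv v w)
  have hfin : Finite ↥(K v w) := Nat.finite_of_card_ne_zero (by rw [hG]; norm_num)
  obtain ⟨hX, a, b, hsub⟩ := sub_four norm_U norm_W dot_UW
  have hfX : Finite ↥(Pts v w) := Nat.finite_of_card_ne_zero (by rw [hX]; norm_num)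
  obtain ⟨χ, f, D, h1, h2, h3, ⟨i0, h4, h4'⟩, h5, h6, h7⟩ := exists_degrees hsub
  have hN : ∏ i, (Nat.card ↥(Pts v w) * ![1, 330, 462, 1232] i) = PP := by
    rw [hX, Fin.prod_univ_four]
    rfl
  rw [hN] at h6
  rw [hX] at h5
  rw [hG] at h3
  obtain ⟨i, hi, hi1, hi2⟩ := exists_even h3 h4' h5 h6 h7
  have hdeg : charDegree (χ i : ↥(K v w) → ℂ) = f i := H670.PSing.charDegree_eq_of (h2 i)
  exact ⟨χ i, by rw [hdeg]; exact hi, by rw [hdeg]; exact hi1, by rw [hdeg]; exact hi2⟩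

/-- **The model.** -/
theorem many_model : Many 2 ↥(K Spor.leechU (-(Spor.leechV + Spor.leechU))) 3 := by
  obtain ⟨μ, hμ⟩ := exists_deg_of_eq hK (d := 22) (by
    obtain ⟨μ, -, hμ⟩ := McL.exists_22
    have hfin : Finite ↥(K (-Spor.leechV) Spor.leechU) := Nat.finite_of_card_ne_zero (by rw [McL.facts.2]; norm_num)
    refine ⟨μ, ?_⟩
    have := HS.degree_of_lchi hμ
    omega)
  obtain ⟨ν, hν⟩ := exists_deg_of_eq hK McL.exists_252
  obtain ⟨χ, hi, hi1, hi2⟩ := even_model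
  refine many_three (α := μ) (β := ν) (γ := χ) (by rw [hμ]; norm_num) (by rw [hν]; norm_num)
    (Nat.dvd_of_mod_eq_zero hi) ?_ ?_ ?_
  · rw [hμ, hν]; norm_num
  · rw [hμ]; exact Ne.symm hi1
  · rw [hν]; exact Ne.symm hi2

theorem many_mcl {S : Type*} [Group S] (h : Spor.IsoMcL S) : Many 2 S 3 := by
  obtain ⟨e⟩ := h
  exact Many.of_equiv ((e.trans McL.mclEquiv).trans (MulEquiv.subgroupCongr hK)) many_model

end Cfsg.Agent.H70.Dl.McLTwo
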